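import Groth.Agent.Lib.DQC.Classes
import Groth.Agent.Lib.DerTrunc.Basic

/-!
# Products and limits of towers of quasi-coherent modules in the derived category
-/

set_option autoImplicit false
set_option linter.style.haveILetI false
set_option backward.isDefEq.respectTransparency false
set_option backward.isDefEq.respectTransparency.types false

universe u

open CategoryTheory CategoryTheory.Limits AlgebraicGeometry Opposite TopologicalSpace

namespace Groth.Agent.QRlim9

attribute [local instance] HasDerivedCategory.standard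

variable {X : Scheme.{u}}

/-- If an object has no classes in degree `k` over affine opens, its `k`-th cohomology module is zero. -/
theorem isZero_HD_of_classes (P : DCoh.D X) (k : ℤ)
    (h : ∀ U : X.Opens, IsAffineOpen U →
      Subsingleton ((DerivedCategory.singleFunctor X.Modules k).obj ((DQC.gen X).obj U) ⟶ P)) :
    IsZero ((DerivedCategory.homologyFunctor X.Modules k).obj P) := by
  let K := DerivedCategory.Q.objPreimage P
  let eK : DerivedCategory.Q.obj K ≅ P := DerivedCategory.Q.objObjPreimageIso P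
  suffices h' : IsZero (K.homology k) from
    h'.of_iso ((DerivedCategory.homologyFunctor X.Modules k).mapIso eK.symm ≪≫
      (DerivedCategory.homologyFunctorFactors X.Modules k).app K)
  have hgen := DQC.localGen_gen X
  have key : ∀ (U : X.Opens), IsAffineOpen U → ∀ ψ : (DQC.gen X).obj U ⟶ K.cycles k,
      ψ ≫ K.homologyπ k = 0 := by
    intro U hU ψ
    let f : (HomologicalComplex.single X.Modules (ComplexShape.up ℤ) k).obj ((DQC.gen X).obj U) ⟶ K :=
      HomologicalComplex.mkHomFromSingle (ψ ≫ K.iCycles k) (fun j _ => by simp)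
    have hf : DerivedCategory.Q.map f = 0 := by
      haveI := h U hU
      rw [← cancel_mono eK.hom, ← cancel_epi ((DerivedCategory.singleFunctorIsoCompQ X.Modules k).hom.app _)]
      exact Subsingleton.elim _ _
    have hH : HomologicalComplex.homologyMap f k = 0 := by
      have hn := (DerivedCategory.homologyFunctorFactors X.Modules k).hom.naturality f
      simp only [Functor.comp_map, hf, Functor.map_zero, zero_comp] at hn
      exact ((cancel_epi _).1 (hn.symm.trans comp_zero.symm))
    have h1 : ψ = (HomologicalComplex.singleObjCyclesSelfIso (ComplexShape.up ℤ) k ((DQC.gen X).obj U)).inv ≫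
        HomologicalComplex.cyclesMap f k := by
      rw [← cancel_mono (K.iCycles k)]
      simp only [Category.assoc, HomologicalComplex.cyclesMap_i]
      simp [f]
    rw [h1, Category.assoc, ← HomologicalComplex.homologyπ_naturality, hH, comp_zero, comp_zero]
  rw [IsZero.iff_id_eq_zero]
  refine hgen.gen _ fun U φ => ?_
  rw [Category.comp_id]
  obtain ⟨S, hS, hlift⟩ := hgen.lift (K.homologyπ k) φ
  refine hgen.sep φ S hS fun {V} g hg => ?_
  obtain ⟨ψ, hψ⟩ := hlift g hg
  rw [← hψ]
  let T : Sieve V :=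
    { arrows := fun Y _ => ∃ W : X.Opens, IsAffineOpen W ∧ W ≤ V ∧ Y ≤ W
      downward_closed := fun ⟨W, hW, hWV, hY⟩ a => ⟨W, hW, hWV, (leOfHom a).trans hY⟩ }
  refine hgen.sep _ T (fun x hx => ?_) fun {Y} a ⟨W, hW, hWV, hYW⟩ => ?_
  · obtain ⟨W, hW, hxW, hWV⟩ := TopologicalSpace.Opens.isBasis_iff_nbhd.1 X.isBasis_affineOpens hx
    exact ⟨W, homOfLE hWV, ⟨W, hW, hWV, le_rfl⟩, hxW⟩
  · rw [show a = homOfLE hYW ≫ homOfLE hWV from Subsingleton.elim _ _, Functor.map_comp, Category.assoc,
      ← Category.assoc ((DQC.gen X).map (homOfLE hWV)), key W hW, comp_zero]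

/-- Classes of a module concentrated in degree zero vanish in non-zero degrees over affine opens. -/
theorem subsingleton_classes_inD {U : X.Opens} (hU : IsAffineOpen U) (F : X.Modules) (hF : Coh.IsQCoh F)
    {k : ℤ} (hk : k ≠ 0) :
    Subsingleton ((DerivedCategory.singleFunctor X.Modules k).obj ((DQC.gen X).obj U) ⟶ DCoh.inD X F) := by
  rcases lt_or_gt_of_ne hk with hk | hk
  · haveI : ((DerivedCategory.singleFunctor X.Modules k).obj ((DQC.gen X).obj U)).IsLE k := inferInstance
    haveI : (DCoh.inD X F).IsGE 0 := inferInstanceAs (((DerivedCategory.singleFunctor X.Modules 0).obj F).IsGE 0)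
    exact ⟨fun a b => (DerivedCategory.TStructure.t.zero a k 0 hk).trans
      (DerivedCategory.TStructure.t.zero b k 0 hk).symm⟩
  · obtain ⟨n, rfl⟩ : ∃ n : ℕ, k = ((n + 1 : ℕ) : ℤ) := ⟨(k - 1).toNat, by omega⟩
    haveI := DQC.subsingleton_ext_gen hU F hF (n + 1) (by omega)
    refine ⟨fun a b => ?_⟩
    let e := ((DerivedCategory.singleFunctors X.Modules).shiftIso (((n + 1 : ℕ) : ℤ)) 0 ((n + 1 : ℕ) : ℤ) (by simp)).app
      ((DQC.gen X).obj U)
    have hh : ∀ a' b' : (DerivedCategory.singleFunctor X.Modules 0).obj ((DQC.gen X).obj U) ⟶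
        ((DerivedCategory.singleFunctor X.Modules 0).obj F)⟦((n + 1 : ℕ) : ℤ)⟧, a' = b' := fun a' b' =>
      Abelian.Ext.homEquiv.symm.injective (Subsingleton.elim _ _)
    have hh2 := hh (e.inv ≫ a⟦(((n + 1 : ℕ) : ℤ))⟧') (e.inv ≫ b⟦(((n + 1 : ℕ) : ℤ))⟧')
    exact (shiftFunctor (DCoh.D X) _).map_injective ((cancel_epi e.inv).1 hh2)

/-- A product of quasi-coherent modules stays a product in the derived category. -/
theorem exists_iso_pi (F : ℕ → X.Modules) (hF : ∀ n, Coh.IsQCoh (F n)) [HasProduct fun n => DCoh.inD X (F n)] :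
    ∃ (M : X.Modules) (π : ∀ n, M ⟶ F n) (e : DCoh.inD X M ≅ ∏ᶜ fun n => DCoh.inD X (F n)),
      Nonempty (IsLimit (Fan.mk M π)) ∧
        ∀ n, e.hom ≫ Pi.π (fun n => DCoh.inD X (F n)) n = (DerivedCategory.singleFunctor X.Modules 0).map (π n) := by
  let P := ∏ᶜ fun n => DCoh.inD X (F n)
  have hzero : ∀ k : ℤ, k ≠ 0 → IsZero ((DerivedCategory.homologyFunctor X.Modules k).obj P) := fun k hk =>
    isZero_HD_of_classes P k fun U hU => ⟨fun a b => Pi.hom_ext _ _ fun n =>
      (subsingleton_classes_inD hU (F n) (hF n) hk).elim _ _⟩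
  haveI : P.IsGE 0 := (DerivedCategory.isGE_iff P 0).2 fun i hi => hzero i (by omega)
  haveI : P.IsLE 0 := (DerivedCategory.isLE_iff P 0).2 fun i hi => hzero i (by omega)
  obtain ⟨M, ⟨e'⟩⟩ := DerivedCategory.exists_iso_singleFunctor_obj_of_isGE_of_isLE P 0
  let e : (DerivedCategory.singleFunctor X.Modules 0).obj M ≅ P := e'.symm
  let π : ∀ n, M ⟶ F n := fun n => (DerivedCategory.singleFunctor X.Modules 0).preimage
    (e.hom ≫ Pi.π (fun n => DCoh.inD X (F n)) n)
  have hπ : ∀ n, e.hom ≫ Pi.π (fun n => DCoh.inD X (F n)) n = (DerivedCategory.singleFunctor X.Modules 0).map (π n) :=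
    fun n => ((DerivedCategory.singleFunctor X.Modules 0).map_preimage _).symm
  refine ⟨M, π, e, ⟨Fan.IsLimit.mk _ (fun s => (DerivedCategory.singleFunctor X.Modules 0).preimage
      (Pi.lift (fun n => (DerivedCategory.singleFunctor X.Modules 0).map (s.proj n)) ≫ e.inv))
    (fun s n => (DerivedCategory.singleFunctor X.Modules 0).map_injective ?_)
    (fun s m hm => (DerivedCategory.singleFunctor X.Modules 0).map_injective ?_)⟩, hπ⟩
  · rw [Functor.map_comp, Functor.map_preimage]
    show (_ ≫ e.inv) ≫ (DerivedCategory.singleFunctor X.Modules 0).map (π n) = _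
    rw [← hπ, Category.assoc, e.inv_hom_id_assoc]
    exact limit.lift_π _ _
  · rw [Functor.map_preimage, Iso.eq_comp_inv]
    refine Pi.hom_ext _ _ fun n => ?_
    rw [Category.assoc, hπ, ← Functor.map_comp]
    exact ((congrArg _ (hm n))).trans (Pi.lift_π (f := fun n => (DerivedCategory.singleFunctor X.Modules 0).obj (F n)) (fun n => (DerivedCategory.singleFunctor X.Modules 0).map (s.proj n)) n).symm

end Groth.Agent.QRlim9
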