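import Groth.Agent.Lib.QRlim9.Basic
import Groth.Agent.Lib.ModM1.Coh
import Groth.Agent.Lib.CohFound.HHBridge
import Mathlib.CategoryTheory.Functor.OfSequence
import Mathlib.Algebra.Homology.DerivedCategory.SingleTriangle

/-!
# Limits of towers of quasi-coherent modules as derived limits
-/

set_option autoImplicit false
set_option linter.style.haveILetI false
set_option backward.isDefEq.respectTransparency false
set_option backward.isDefEq.respectTransparency.types false

universe u

open CategoryTheory CategoryTheory.Limits AlgebraicGeometry Opposite TopologicalSpace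

namespace Groth.Agent.QRlim9

attribute [local instance] HasDerivedCategory.standard

variable {X : Scheme.{u}} {F : ℕ → X.Modules} (t : ∀ n, F (n + 1) ⟶ F n)

/-- The limit is the kernel of identity minus shift on the product, and that map is onto. -/
theorem exists_shortExact (hF : ∀ n, Coh.IsQCoh (F n)) (ht : ∀ n, 1 ≤ n → Epi (t n))
    {M : X.Modules} (π : ∀ n, M ⟶ F n) (hM : IsLimit (Fan.mk M π)) :
    ∃ (ι : Limits.limit (Functor.ofOpSequence t) ⟶ M) (δ : M ⟶ M) (w : ι ≫ δ = 0),
      (ShortComplex.mk ι δ w).ShortExact ∧ (∀ n, δ ≫ π n = π n - π (n + 1) ≫ t n) ∧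
      ∀ (W : X.Opens), IsAffineOpen W → ∀ φ : (DQC.gen X).obj W ⟶ M, ∃ z, z ≫ δ = φ := by
  let G := Functor.ofOpSequence t
  let l : ∀ n, Limits.limit G ⟶ F n := fun n => limit.π G (op n)
  let ι : Limits.limit G ⟶ M := Fan.IsLimit.lift hM l
  let δ : M ⟶ M := Fan.IsLimit.lift hM fun n => π n - π (n + 1) ≫ t n
  have hι : ∀ n, ι ≫ π n = l n := fun n => Fan.IsLimit.fac hM _ n
  have hδ : ∀ n, δ ≫ π n = π n - π (n + 1) ≫ t n := fun n => Fan.IsLimit.fac hM _ n
  have hl : ∀ n, l (n + 1) ≫ t n = l n := fun n => by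
    have h := limit.w G (homOfLE (Nat.le_add_right n 1)).op
    rw [Functor.ofOpSequence_map_homOfLE_succ] at h
    exact h
  have w : ι ≫ δ = 0 := Fan.IsLimit.hom_ext hM _ _ fun n => by
    show (ι ≫ δ) ≫ π n = (0 : _ ⟶ M) ≫ π n
    rw [Category.assoc, hδ, Preadditive.comp_sub, ← Category.assoc, hι, hι, hl, sub_self, zero_comp]
  have hlift : ∀ (W : X.Opens), IsAffineOpen W → ∀ φ : (DQC.gen X).obj W ⟶ M, ∃ z, z ≫ δ = φ := by
    intro W hW φ
    have hs : ∀ n, 1 ≤ n → ∀ a : (DQC.gen X).obj W ⟶ F n, ∃ b, b ≫ t n = a := fun n hn a => by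
      haveI := ht n hn
      obtain ⟨s, hs⟩ := M1.app_surjective_affine_of_isQCoh (hF (n + 1)) (hF n) (t n) hW (DQC.genHom W _ a)
      refine ⟨(DQC.genHom W _).symm s, (DQC.genHom W _).injective ?_⟩
      rw [DQC.genHom_comp, Equiv.apply_symm_apply]
      exact hs
    choose b hb using hs
    let y : ∀ n, (DQC.gen X).obj W ⟶ F n := fun n => φ ≫ π n
    let z1 : ∀ k, (DQC.gen X).obj W ⟶ F (k + 1) := fun k =>
      Nat.rec (motive := fun k => (DQC.gen X).obj W ⟶ F (k + 1)) 0
        (fun k prev => b (k + 1) (by omega) (prev - y (k + 1))) k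
    let z : ∀ n, (DQC.gen X).obj W ⟶ F n := fun n =>
      match n with
      | 0 => y 0 + z1 0 ≫ t 0
      | k + 1 => z1 k
    refine ⟨Fan.IsLimit.lift hM z, Fan.IsLimit.hom_ext hM _ _ fun n => ?_⟩
    show (Fan.IsLimit.lift hM z ≫ δ) ≫ π n = φ ≫ π n
    have hz : ∀ m, Fan.IsLimit.lift hM z ≫ π m = z m := fun m => Fan.IsLimit.fac hM _ m
    rw [Category.assoc, hδ, Preadditive.comp_sub, ← Category.assoc, hz, hz]
    cases n with
    | zero => exact add_sub_cancel_right _ _
    | succ k =>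
      show z1 k - b (k + 1) (by omega) (z1 k - y (k + 1)) ≫ t (k + 1) = y (k + 1)
      rw [hb]
      exact sub_sub_cancel _ _
  haveI : Epi δ := by
    refine Preadditive.epi_of_cokernel_zero ?_
    refine (DQC.localGen_gen X).gen _ fun U φ => ?_
    let S : Sieve U :=
      { arrows := fun Y _ => ∃ W : X.Opens, IsAffineOpen W ∧ W ≤ U ∧ Y ≤ W
        downward_closed := fun ⟨W, hW, hWV, hY⟩ a => ⟨W, hW, hWV, (leOfHom a).trans hY⟩ }
    refine (DQC.localGen_gen X).sep _ S (fun x hx => ?_) fun {Y} a ⟨W, hW, hWU, hYW⟩ => ?_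
    · obtain ⟨W, hW, hxW, hWU⟩ := TopologicalSpace.Opens.isBasis_iff_nbhd.1 X.isBasis_affineOpens hx
      exact ⟨W, homOfLE hWU, ⟨W, hW, hWU, le_rfl⟩, hxW⟩
    · obtain ⟨z, hz⟩ := hlift W hW ((DQC.gen X).map (homOfLE hWU) ≫ φ)
      rw [show a = homOfLE hYW ≫ homOfLE hWU from Subsingleton.elim _ _, Functor.map_comp, Category.assoc,
        ← Category.assoc ((DQC.gen X).map (homOfLE hWU)) φ, ← hz, Category.assoc, cokernel.condition,
        comp_zero, comp_zero]
  have hker : IsLimit (KernelFork.ofι ι w) := by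
    have hcone : ∀ {A : X.Modules} (g : A ⟶ M), g ≫ δ = 0 → ∀ n,
        (g ≫ π (n + 1)) ≫ t n = g ≫ π n := fun {A} g hg n => by
      have h := congrArg (· ≫ π n) hg
      rw [Category.assoc, hδ, Preadditive.comp_sub, zero_comp, sub_eq_zero] at h
      rw [Category.assoc, ← h]
    haveI : Mono ι := ⟨fun f g hfg => limit.hom_ext fun j => by
      have h := congrArg (· ≫ π j.unop) hfg
      simp only [Category.assoc, hι] at h
      exact h⟩
    exact KernelFork.IsLimit.ofι' ι w fun {A} g hg => ⟨limit.lift G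
      ⟨A, NatTrans.ofOpSequence (fun n => g ≫ π n) (fun n => by
        simp [G, Functor.ofOpSequence_map_homOfLE_succ, hcone g hg n])⟩,
      Fan.IsLimit.hom_ext hM _ _ fun n => by
        show (_ ≫ ι) ≫ π n = g ≫ π n
        rw [Category.assoc, hι]
        exact limit.lift_π _ _⟩
  haveI : Mono ι := mono_of_isLimit_fork hker
  exact ⟨ι, δ, w, ⟨(ShortComplex.exact_of_f_is_kernel _ hker)⟩, hδ, hlift⟩

theorem isRlim_and_acyclic (hF : ∀ n, Coh.IsQCoh (F n)) (ht : ∀ n, 1 ≤ n → Epi (t n))
    [HasProduct fun n => DCoh.inD X (F n)] :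
    DCoh.IsRlim (fun n => DCoh.inD X (F n)) (fun n => (DerivedCategory.singleFunctor X.Modules 0).map (t n))
        (DCoh.inD X (Limits.limit (Functor.ofOpSequence t))) ∧
      ∀ (U : X.Opens), IsAffineOpen U → ∀ p : ℕ, 0 < p →
        Subsingleton (Coh.HHon X (Limits.limit (Functor.ofOpSequence t)) U p) := by
  obtain ⟨M, π, e, ⟨hM⟩, he⟩ := exists_iso_pi F hF
  obtain ⟨ι, δ, w, hS, hδ, hlift⟩ := exists_shortExact t hF ht π hM
  let SF := DerivedCategory.singleFunctor X.Modules 0
  constructor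
  · refine ⟨SF.map ι ≫ e.hom, e.inv ≫ hS.singleδ, Pretriangulated.isomorphic_distinguished _
      hS.singleTriangle_distinguished _ ?_⟩
    refine Pretriangulated.Triangle.isoMk _ _ (Iso.refl _) e.symm e.symm ?_ ?_ ?_
    · dsimp [ShortComplex.ShortExact.singleTriangle]
      simp [SF]
    · dsimp [ShortComplex.ShortExact.singleTriangle]
      rw [← cancel_mono e.hom]
      simp only [Category.assoc, Iso.inv_hom_id, Category.comp_id]
      refine Pi.hom_ext _ _ fun n => ?_
      simp only [Pretriangulated.Triangle.mk_mor₂, Category.assoc]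
      rw [he, ← Functor.map_comp, hδ, Functor.map_sub, Functor.map_comp, ← he, ← he]
      simp
    · simp [ShortComplex.ShortExact.singleTriangle]
  · intro U hU p hp
    have hvan : ∀ k : ℕ, 1 ≤ k → Subsingleton (Abelian.Ext.{u} ((DQC.gen X).obj U) M k) := by
      intro k hk
      haveI : Subsingleton ((DerivedCategory.singleFunctor X.Modules (k : ℤ)).obj ((DQC.gen X).obj U) ⟶ DCoh.inD X M) :=
        ⟨fun a b => (cancel_mono e.hom).1 (Pi.hom_ext _ _ fun n =>
          (subsingleton_classes_inD hU (F n) (hF n) (by omega)).elim _ _)⟩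
      let sh := ((DerivedCategory.singleFunctors X.Modules).shiftIso (k : ℤ) 0 (k : ℤ) (by simp)).app ((DQC.gen X).obj U)
      have hh : Subsingleton (SF.obj ((DQC.gen X).obj U) ⟶ (SF.obj M)⟦(k : ℤ)⟧) := ⟨fun a b => by
        obtain ⟨a', ha⟩ := (shiftFunctor (DCoh.D X) (k : ℤ)).map_surjective (sh.hom ≫ a)
        obtain ⟨b', hb⟩ := (shiftFunctor (DCoh.D X) (k : ℤ)).map_surjective (sh.hom ≫ b)
        rw [← cancel_epi sh.hom, ← ha, ← hb, Subsingleton.elim a' b']⟩
      exact Abelian.Ext.homEquiv.injective.subsingleton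
    obtain ⟨q, rfl⟩ : ∃ q, p = q + 1 := ⟨p - 1, by omega⟩
    have hext : Subsingleton (Abelian.Ext.{u} ((DQC.gen X).obj U) (Limits.limit (Functor.ofOpSequence t)) (q + 1)) := by
      refine subsingleton_of_forall_eq 0 fun x => ?_
      obtain ⟨y, rfl⟩ := Abelian.Ext.covariant_sequence_exact₁ _ hS x ((hvan (q + 1) (by omega)).elim _ _) (n₀ := q) rfl
      rcases q with _ | q
      · obtain ⟨f, rfl⟩ := (Abelian.Ext.mk₀_bijective _ _).2 y
        obtain ⟨z, rfl⟩ := hlift U hU f
        rw [← Abelian.Ext.mk₀_comp_mk₀, Abelian.Ext.comp_assoc_of_second_deg_zero, hS.comp_extClass,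
          Abelian.Ext.comp_zero]
      · rw [(hvan (q + 1) (by omega)).elim y 0, Abelian.Ext.zero_comp]
    obtain ⟨eh⟩ := CohFound.nonempty_HHon_addEquiv (Limits.limit (Functor.ofOpSequence t)) U (q + 1)
    haveI : Subsingleton (Abelian.Ext.{u} (C := ModSite.Mod X.sheaf) (ModSite.freeOn X.sheaf U) (Limits.limit (Functor.ofOpSequence t)) (q + 1)) := hext
    have hHU : Subsingleton (ModSite.HU X.sheaf (Limits.limit (Functor.ofOpSequence t)) (q + 1) U) :=
      (SiteCoh.bijective_extCompHom (R := SheafOfModules.toSheaf.{u} (ModSite.ringSh X.sheaf)) (SiteRlim.univSection X.sheaf U)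
        (SiteRlim.bijective_univSection X.sheaf U)
        (fun I _ k => SiteCoh.subsingleton_ext_frP (SiteCoh.isTotallyAcyclic_injective _ I) (yoneda.obj U) k)
        (q + 1) (Limits.limit (Functor.ofOpSequence t))).2.subsingleton
    haveI := (CohFound.huExt ((CohFound.abF X).obj (Limits.limit (Functor.ofOpSequence t))) (q + 1) U).toEquiv.subsingleton_congr.1 hHU
    exact eh.injective.subsingleton

end Groth.Agent.QRlim9
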